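import Cfsg.Agent.H50.HerRel
import Cfsg.Agent.H50.HerNum
import Cfsg.Agent.H60.HerSpor
import Cfsg.Agent.H868.HerBridge
import Cfsg.Agent.H203.OrthHeis
import Cfsg.Agent.H912.MultChar
import Cfsg.Agent.S0292
import Cfsg.Agent.S0293
import Cfsg.Agent.S0294
import Cfsg.Agent.S0816
import Cfsg.Agent.S0817
import Cfsg.Agent.S0818

/-!
# Hering's theorem: the orthogonal groups in cross characteristic (helper124, task 1511 of helper50)

`row_po_odd`, `row_po_plus`, `row_po_minus`.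
-/

set_option autoImplicit false

namespace Cfsg.Agent.H124.Her

open Cfsg Cfsg.Agent.H50.Her Module

universe u

/-! ### Numbers -/

/-- `r` is a prime, `d + 1 ≤ r`, and `r = d + 1` only if `r ^ 2 ∣ |Aut S|` or in the exceptional pairs -/
theorem rel_spec {p d r R : ℕ} (hd : 3 ≤ d) (hR : Rel p d r R) : r.Prime ∧ d + 1 ≤ r ∧
    (2 * d + 1 ≤ r ∨ (Large p d r R ∧ R = r ^ 2 ∧ r = d + 1) ∨ (r = d + 1 ∧ Exc p d)) := by
  rcases hR with h | ⟨rfl, -, h⟩
  · rcases h.large with ⟨h1, h2⟩ | ⟨h1, h2⟩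
    · exact ⟨h.prime, by omega, Or.inl h2⟩
    · exact ⟨h.prime, by omega, Or.inr (Or.inl ⟨h, h1, h2⟩)⟩
  · refine ⟨?_, le_rfl, Or.inr (Or.inr ⟨rfl, h⟩)⟩
    rcases h with ⟨-, rfl | rfl | rfl⟩ | ⟨rfl, -⟩ <;> norm_num

/-- a prime divisor of `q ^ (2 j) - 1` is at most `q ^ j + 1` -/
theorem le_of_dvd_sq {r q j : ℕ} (hr : r.Prime) (hq : 2 ≤ q) (hj : 1 ≤ j) (h : r ∣ q ^ (2 * j) - 1) : r ≤ q ^ j + 1 := by
  have h1 : q ^ (2 * j) - 1 = (q ^ j + 1) * (q ^ j - 1) := by
    have := Nat.sq_sub_sq (q ^ j) 1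
    rw [one_pow, ← pow_mul, mul_comm j 2] at this
    exact this
  have h2 : 1 < q ^ j := Nat.one_lt_pow (by omega) (by omega)
  rw [h1] at h
  rcases hr.dvd_mul.1 h with h3 | h3
  · exact Nat.le_of_dvd (by omega) h3
  · have := Nat.le_of_dvd (by omega) h3
    omega

theorem le_of_dvd_prod {r q k m : ℕ} (hr : r.Prime) (hq : 2 ≤ q) (hk : k ≤ m)
    (h : r ∣ ∏ i ∈ Finset.range k, (q ^ (2 * (i + 1)) - 1)) : r ≤ q ^ m + 1 := by
  rw [Prime.dvd_finsetProd_iff hr.prime] at h
  obtain ⟨i, hi, h1⟩ := h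
  rw [Finset.mem_range] at hi
  have h2 := le_of_dvd_sq hr hq (by omega) h1
  have h3 : q ^ (i + 1) ≤ q ^ m := Nat.pow_le_pow_right (by omega) (by omega)
  omega

/-- a prime divisor of `q` is at most `q ^ m + 1` -/
theorem le_of_dvd_q {r q N m : ℕ} (hr : r.Prime) (hq : 2 ≤ q) (hm : 1 ≤ m) (h : r ∣ q ^ N) : r ≤ q ^ m + 1 := by
  have h1 := Nat.le_of_dvd (by omega) (hr.dvd_of_dvd_pow h)
  have h2 : q ^ 1 ≤ q ^ m := Nat.pow_le_pow_right (by omega) hm
  rw [pow_one] at h2
  omega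

/-- the basic inequality -/
theorem two_mul_le {q m k : ℕ} (hq : 3 ≤ q) (hk : m ≤ k) : 2 * q ^ m ≤ (q - 1) * q ^ k :=
  Nat.mul_le_mul (by omega) (Nat.pow_le_pow_right (by omega) hk)

variable {p d b r R : ℕ} {L V S : Type u} [Group L] [AddCommGroup V] [Module (ZMod p) V] [Group S] {π : L →* S}
  {ρ : L →* (V ≃ₗ[ZMod p] V)}

/-- the bound in terms of `Bd` and `NoR` -/
theorem bound (h : Cfg p d b L V S π ρ) {t D : ℕ} (ht : t.Prime) (htp : t ≠ p) (hno : H912.Bd.NoR.{u} t S)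
    (hB : ∀ (F : Type u) [Field F] [CharP F p], (t : F) ≠ 0 → Cfsg.Agent.H912.Bd.Bd F t D S) : D ≤ d := by
  have hcop : (Nat.card (Subgroup.center L)).Coprime t := by
    rw [← h.cent]
    exact hno L h.perf π h.surj h.cent.le
  have h1 : D * b ≤ d := H868.HerBridge.le_of_bd h ht htp hcop (fun F _ _ => hB F (fun h0 => by
    rw [CharP.cast_eq_zero_iff F p] at h0
    exact htp ((Nat.prime_dvd_prime_iff_eq h.prime ht).1 h0).symm))
  exact (Nat.le_mul_of_pos_right D h.b_pos).trans h1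

theorem exists_pow {t : ℕ} (ht : t.Prime) {K : Type} [Field K] [Fintype K] [CharP K t] :
    ∃ f : ℕ, 1 ≤ f ∧ Fintype.card K = t ^ f := by
  have := Fact.mk ht
  obtain ⟨n, -, hn⟩ := FiniteField.card K t
  exact ⟨n, n.pos, hn⟩

/-! ### `Ω_7(3)` and `PΩ_8⁺(2)` -/

theorem num_o73 {p d b r R m' : ℕ} (hp : p.Prime) (hd : 3 ≤ d) (hL : Large p d r R) (hr : r ∣ 4585351680)
    (hm' : m' ∣ 9170703360) (hb : 0 < b) (hbd : b ∣ d) (hlt : b < d)
    (h3 : p ^ d - 1 ∣ (p ^ b - 1) * m') (h4 : 4585351680 ∣ glCard p d) : (p, d) ∈ ([(3, 6)] : List (ℕ × ℕ)) :=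
  no_of_check (fs := [(2, 10), (3, 9), (5, 1), (7, 1), (13, 1)])
    (xs := [(3, 17), (4, 17), (6, 24)]) (ex := [(3, 6)])
    (by decide +kernel) (by decide +kernel) (by decide +kernel) (by decide +kernel) (by decide +kernel)
    hp hd hL hr (by norm_num) hm' hb hbd hlt h3 h4

theorem num_o8p2 {p d b r R m' : ℕ} (hp : p.Prime) (hd : 3 ≤ d) (hL : Large p d r R) (hr : r ∣ 174182400)
    (hm' : m' ∣ 1045094400) (hb : 0 < b) (hbd : b ∣ d) (hlt : b < d)
    (h3 : p ^ d - 1 ∣ (p ^ b - 1) * m') (h4 : 174182400 ∣ glCard p d) : (p, d) ∈ ([] : List (ℕ × ℕ)) :=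
  no_of_check (fs := [(2, 13), (3, 6), (5, 2), (7, 1)])
    (xs := [(3, 5), (4, 11)]) (ex := [])
    (by decide +kernel) (by decide +kernel) (by decide +kernel) (by decide +kernel) (by decide +kernel)
    hp hd hL hr (by norm_num) hm' hb hbd hlt h3 h4

/-- the exceptional pairs are excluded by the order -/
theorem not_exc {n : ℕ} (h : Cfg p d b L V S π ρ) (hE : Exc p d) (hn : Nat.card S = n) (hr : d + 1 ∣ n)
    (h10 : ¬ 11 ∣ n ∨ ¬ n ∣ glCard 2 10) (h12 : ¬ 13 ∣ n ∨ ¬ n ∣ glCard 2 12) (h18 : ¬ 19 ∣ n ∨ ¬ n ∣ glCard 2 18)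
    (h36 : p ≠ 3 ∨ ¬ 7 ∣ n ∨ ¬ n ∣ glCard 3 6) (h56 : ¬ 7 ∣ n ∨ ¬ n ∣ glCard 5 6) : False := by
  have h1 : n ∣ glCard p d := hn ▸ H60.HerSpor.dvd_gl h
  rcases hE with ⟨rfl, rfl | rfl | rfl⟩ | ⟨rfl, rfl | rfl⟩
  · exact h10.elim (fun h => h hr) (fun h => h h1)
  · exact h12.elim (fun h => h hr) (fun h => h h1)
  · exact h18.elim (fun h => h hr) (fun h => h h1)
  · exact h36.elim (fun h => h rfl) (fun h => h.elim (fun h => h hr) (fun h => h h1))
  · exact h56.elim (fun h => h hr) (fun h => h h1)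

/-! ### The rows -/

/-- **`PΩ_{2m+1}(q)`, `q` odd.** -/
theorem row_po_odd (h : Cfg p d b L V S π ρ) (hd : 3 ≤ d) (hR : Rel p d r R) (hr : r ∣ Nat.card S)
    {t : ℕ} (ht : t.Prime) (htp : t ≠ p) {K : Type} [Field K] [Fintype K] [CharP K t] {m : ℕ} (hm : 3 ≤ m)
    (ho : Odd (Fintype.card K)) (e : S ≃* POmega K (quadFormOdd m K)) (_hn : ¬ IsLieTypeChar p S) : False := by
  have hp := h.prime
  obtain ⟨f, hf1, hf⟩ := exists_pow ht (K := K)
  have hfact := Fact.mk ht
  obtain ⟨hrp, hdr, hcase⟩ := rel_spec hd hR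
  have hq1 : 1 < Fintype.card K := Fintype.one_lt_card
  have hq3 : 3 ≤ Fintype.card K := by
    obtain ⟨k, hk⟩ := ho
    omega
  have hcard : Nat.card S = Nat.card (POmega K (quadFormOdd m K)) := Nat.card_congr e.toEquiv
  have hord := S0292.result (F := K) rfl ho m hm
  by_cases hexc : m = 3 ∧ Fintype.card K = 3
  · obtain ⟨rfl, hK⟩ := hexc
    have ht3 : t = 3 := by
      have h1 : t ∣ 3 := by
        rw [← hK, hf]
        exact dvd_pow_self t (by omega)
      exact (Nat.prime_dvd_prime_iff_eq ht Nat.prime_three).1 h1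
    have h3 : Fact (Nat.Prime 3) := ⟨Nat.prime_three⟩
    have hn : Nat.card S = 4585351680 := by
      rw [← hcard, hK] at hord
      norm_num [Finset.prod_range_succ] at hord
      omega
    have haut : Nat.card (MulAut S) = 9170703360 := by
      rw [Nat.card_congr (MulAut.congr e).toEquiv, S0816.result (F := K) 3 1 le_rfl (by rw [hK, pow_one])
        (by decide) 3 le_rfl, ← hcard, hn]
    rcases hR with hL | ⟨h1, -, hE⟩
    · have h1 := num_o73 hp hd hL (hn ▸ hr) (dvd_refl _) h.b_pos h.b_dvd h.b_lt (by rw [← haut]; exact h.num)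
        (hn ▸ H60.HerSpor.dvd_gl h)
      simp only [List.mem_singleton, Prod.mk.injEq] at h1
      exact htp (ht3.trans h1.1.symm)
    · refine not_exc h hE hn (by rw [← h1, ← hn]; exact hr) (Or.inl (by norm_num)) (Or.inr (by decide +kernel))
        (Or.inl (by norm_num)) (Or.inl fun h2 => htp (ht3.trans h2.symm)) (Or.inr (by decide +kernel))
  · have hno : H912.Bd.NoR.{u} t S := by
      refine (H912.Bd.NoR.of_cyclic (S2094.result (F := K) rfl ho m hm hexc) ?_).congr e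
      rw [Nat.coprime_two_left]
      exact Odd.of_dvd_nat ho (H912.Bd.char_dvd_card K)
    have h2K : (2 : K) ≠ 0 := by
      intro h0
      have h1 : t ∣ 2 := (CharP.cast_eq_zero_iff K t 2).1 (by exact_mod_cast h0)
      have h2 : t = 2 := (Nat.prime_dvd_prime_iff_eq ht Nat.prime_two).1 h1
      rw [hf, h2] at ho
      exact (Nat.not_odd_iff_even.2 ((Nat.even_pow.2 ⟨even_two, by omega⟩))) ho
    have hD := bound h ht htp hno (D := (Fintype.card K - 1) * Fintype.card K ^ (2 * m - 3)) (fun F _ _ h0 =>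
      (H203.OrthHeis.bd_pomega_odd_heis ht h0 hf h2K hm).congr e)
    have h1 := two_mul_le hq3 (show m ≤ 2 * m - 3 by omega)
    have h2 : r ≤ Fintype.card K ^ m + 1 := by
      have h3 : r ∣ Fintype.card K ^ (m ^ 2) * ∏ i ∈ Finset.range m, (Fintype.card K ^ (2 * (i + 1)) - 1) := by
        rw [← hord, ← hcard]
        exact Dvd.dvd.mul_left hr 2
      rcases hrp.dvd_mul.1 h3 with h4 | h4
      · exact le_of_dvd_q hrp (by omega) (by omega) h4
      · exact le_of_dvd_prod hrp (by omega) le_rfl h4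
    have h3 : 0 < Fintype.card K ^ m := by positivity
    omega

/-- the bound `(q - 1) q ^ (2 m - 4) ≤ d` against `r ≤ q ^ m + 1` -/
theorem num_even {q m d r : ℕ} (hq : 2 ≤ q) (hm : 4 ≤ m) (hD : (q - 1) * q ^ (2 * m - 4) ≤ d) (hdr : d + 1 ≤ r)
    (hr : r ≤ q ^ m + 1) : q = 2 ∧ m = 4 ∧ d = 16 ∧ r = 17 := by
  by_cases h3 : 3 ≤ q
  · exfalso
    have h1 := two_mul_le h3 (show m ≤ 2 * m - 4 by omega)
    have h2 : 0 < q ^ m := by positivity
    omega
  · have hq2 : q = 2 := by omega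
    subst hq2
    norm_num at hD
    by_cases h5 : 5 ≤ m
    · exfalso
      have h1 : 2 ^ (m + 1) ≤ 2 ^ (2 * m - 4) := Nat.pow_le_pow_right (by norm_num) (by omega)
      rw [pow_succ] at h1
      have h2 : 0 < 2 ^ m := by positivity
      omega
    · have hm4 : m = 4 := by omega
      subst hm4
      norm_num at hD hr
      omega

/-- **`PΩ⁺_{2m}(q)`.** -/
theorem row_po_plus (h : Cfg p d b L V S π ρ) (hd : 3 ≤ d) (hR : Rel p d r R) (hr : r ∣ Nat.card S)
    {t : ℕ} (ht : t.Prime) (htp : t ≠ p) {K : Type} [Field K] [Fintype K] [CharP K t] {m : ℕ} (hm : 4 ≤ m)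
    (e : S ≃* POmega K (quadFormPlus m K)) (_hn : ¬ IsLieTypeChar p S) : False := by
  have hp := h.prime
  obtain ⟨f, hf1, hf⟩ := exists_pow ht (K := K)
  have hfact := Fact.mk ht
  obtain ⟨hrp, hdr, hcase⟩ := rel_spec hd hR
  have hq1 : 1 < Fintype.card K := Fintype.one_lt_card
  have hcard : Nat.card S = Nat.card (POmega K (quadFormPlus m K)) := Nat.card_congr e.toEquiv
  have hord := S0293.result (F := K) rfl m hm
  by_cases hexc : m = 4 ∧ Fintype.card K = 2
  · obtain ⟨rfl, hK⟩ := hexc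
    have ht2 : t = 2 := by
      have h1 : t ∣ 2 := by
        rw [← hK, hf]
        exact dvd_pow_self t (by omega)
      exact (Nat.prime_dvd_prime_iff_eq ht Nat.prime_two).1 h1
    have h2 : Fact (Nat.Prime 2) := ⟨Nat.prime_two⟩
    have hn : Nat.card S = 174182400 := by
      rw [← hcard, hK] at hord
      norm_num [Finset.prod_range_succ] at hord
      omega
    have haut : Nat.card (MulAut S) = 1045094400 := by
      rw [Nat.card_congr (MulAut.congr e).toEquiv, S0817.result (F := K) 2 1 le_rfl (by rw [hK, pow_one])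
        4 le_rfl, ← hcard, hn]
      norm_num
    rcases hR with hL | ⟨h1, -, hE⟩
    · have h1 := num_o8p2 hp hd hL (hn ▸ hr) (dvd_refl _) h.b_pos h.b_dvd h.b_lt (by rw [← haut]; exact h.num)
        (hn ▸ H60.HerSpor.dvd_gl h)
      simp at h1
    · refine not_exc h hE hn (by rw [← h1, ← hn]; exact hr) (Or.inl (by norm_num)) (Or.inl (by norm_num))
        (Or.inl (by norm_num)) (Or.inr (Or.inr (by decide +kernel))) (Or.inr (by decide +kernel))
  · have hno : H912.Bd.NoR.{u} t S := by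
      have hd0 : t ∣ Fintype.card K := H912.Bd.char_dvd_card K
      have hdm : t ∣ Fintype.card K ^ m := dvd_pow hd0 (by omega)
      have hpos : 0 < Fintype.card K ^ m := pow_pos Fintype.card_pos _
      rcases Nat.even_or_odd m with hev | hod
      · refine (H912.Bd.NoR.of_mult (S2097.result (F := K) rfl m hm hev hexc) ?_).congr e
        rw [Nat.card_congr Multiplicative.toAdd, Nat.card_prod, Nat.card_zmod]
        have h1 : (Nat.gcd 2 (Fintype.card K ^ m - 1)).Coprime t := H912.Bd.coprime_gcd_sub ht hpos hdm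
        exact Nat.Coprime.mul_left h1 h1
      · have h5 : 5 ≤ m := by
          by_contra hcon
          have h4 : m = 4 := by omega
          rw [h4] at hod
          exact absurd hod (by decide)
        exact (H912.Bd.NoR.of_cyclic (S2096.result (F := K) rfl m h5 hod)
          (H912.Bd.coprime_gcd_sub ht hpos hdm)).congr e
    have hD := bound h ht htp hno (D := (Fintype.card K - 1) * Fintype.card K ^ (2 * m - 4)) (fun F _ _ h0 =>
      (H203.OrthHeis.bd_pomega_plus_heis ht h0 hf hm).congr e)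
    have h2 : r ≤ Fintype.card K ^ m + 1 := by
      have h3 : r ∣ Fintype.card K ^ (m * (m - 1)) * (Fintype.card K ^ m - 1) *
          ∏ i ∈ Finset.range (m - 1), (Fintype.card K ^ (2 * (i + 1)) - 1) := by
        rw [← hord, ← hcard]
        exact Dvd.dvd.mul_left hr _
      have h5 : 1 < Fintype.card K ^ m := Nat.one_lt_pow (by omega) hq1
      rcases hrp.dvd_mul.1 h3 with h4 | h4
      · rcases hrp.dvd_mul.1 h4 with h4 | h4
        · exact le_of_dvd_q hrp (by omega) (by omega) h4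
        · have := Nat.le_of_dvd (by omega) h4
          omega
      · exact le_of_dvd_prod hrp (by omega) (by omega) h4
    obtain ⟨h3, h4, -, -⟩ := num_even (by omega) hm hD hdr h2
    exact hexc ⟨h4, h3⟩

/-- **`PΩ⁻_{2m}(q)`.** -/
theorem row_po_minus (h : Cfg p d b L V S π ρ) (hd : 3 ≤ d) (hR : Rel p d r R) (hr : r ∣ Nat.card S)
    {t : ℕ} (ht : t.Prime) (htp : t ≠ p) {K : Type} [Field K] [Fintype K] [CharP K t] {m : ℕ} (hm : 4 ≤ m) {x y : K}
    (hxy : ∀ z₁ z₂ : K, z₁ ^ 2 + x * z₁ * z₂ + y * z₂ ^ 2 = 0 → z₁ = 0 ∧ z₂ = 0)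
    (e : S ≃* POmega K (quadFormMinus (m - 1) K x y)) (_hn : ¬ IsLieTypeChar p S) : False := by
  have hp := h.prime
  obtain ⟨f, hf1, hf⟩ := exists_pow ht (K := K)
  have hfact := Fact.mk ht
  obtain ⟨hrp, hdr, hcase⟩ := rel_spec hd hR
  have hq1 : 1 < Fintype.card K := Fintype.one_lt_card
  have hcard : Nat.card S = Nat.card (POmega K (quadFormMinus (m - 1) K x y)) := Nat.card_congr e.toEquiv
  have hord := S0294.result (F := K) rfl m hm x y hxy
  have hno : H912.Bd.NoR.{u} t S :=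
    (H912.Bd.noR_omega_minus.{u} ht (T := POmega K (quadFormMinus (m - 1) K x y)) ⟨K, inferInstance, inferInstance,
        inferInstance, m, x, y, hm, hxy, ⟨MulEquiv.refl _⟩⟩).congr e
  have hD := bound h ht htp hno (D := (Fintype.card K - 1) * Fintype.card K ^ (2 * m - 4)) (fun F _ _ h0 =>
    (H203.OrthHeis.bd_pomega_minus_heis ht h0 hf hm hxy).congr e)
  have h2 : r ≤ Fintype.card K ^ m + 1 := by
    have h3 : r ∣ Fintype.card K ^ (m * (m - 1)) * (Fintype.card K ^ m + 1) *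
        ∏ i ∈ Finset.range (m - 1), (Fintype.card K ^ (2 * (i + 1)) - 1) := by
      rw [← hord, ← hcard]
      exact Dvd.dvd.mul_left hr _
    rcases hrp.dvd_mul.1 h3 with h4 | h4
    · rcases hrp.dvd_mul.1 h4 with h4 | h4
      · exact le_of_dvd_q hrp (by omega) (by omega) h4
      · exact Nat.le_of_dvd (by omega) h4
    · exact le_of_dvd_prod hrp (by omega) (by omega) h4
  obtain ⟨hK, rfl, hd16, hr17⟩ := num_even (by omega) hm hD hdr h2
  rcases hcase with h3 | ⟨hL, hR2, h3⟩ | ⟨h3, hE⟩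
  · omega
  · -- `17 ^ 2` divides `|Aut S|`
    have h4 := h.R_dvd hL h.b_pos
    have hS : Nat.card S = 197406720 := by
      rw [← hcard, hK] at hord
      norm_num [Finset.prod_range_succ] at hord
      omega
    have h2' : Fact (Nat.Prime 2) := ⟨Nat.prime_two⟩
    have haut : Nat.card (MulAut S) = 394813440 := by
      rw [Nat.card_congr (MulAut.congr e).toEquiv, S0818.result (F := K) 2 1 le_rfl (by rw [hK, pow_one])
        4 le_rfl x y hxy, ← hcard, hS]
      norm_num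
    rw [haut, hR2, hr17] at h4
    norm_num at h4
  · rw [hd16] at hE
    unfold Exc at hE
    omega

end Cfsg.Agent.H124.Her
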